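import Cfsg.Agent.H622.Levi.Chain
import Cfsg.Agent.H53.HC.RgdLevi
import Cfsg.Agent.H544.SNX.Cert

/-!
# S3831, exceptional groups over `F₃`, task T1: the tests for `A₂` and `A₃` (helper544)

`exists_co_three` : coordinates of a chain of nodes over `ZMod 3`;
`Uni` : upper unitriangular matrices and the coordinates modulo `VJ {k i}`;
`PS2.of_J` : `PS2` passes to the Levi subgroups and to `SL`;
`tA2`, `tA3`, `mvA2`.
-/

set_option autoImplicit false
set_option linter.unusedSectionVars false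

namespace Cfsg.Agent.H544.SNX

open CoxeterSystem Cfsg.Agent.ChevalleyStructure.CoxeterGeom Cfsg.Agent.Tits.Roots Cfsg.Agent.Tits.Core
  Cfsg.Agent.Nodes.Reps Cfsg.Agent.Nodes.BNOf Cfsg.Agent.Nodes.StabComb Cfsg.Agent.Nodes.RootsA
  Cfsg.Agent.Nodes.Bruhat Cfsg.Agent.Nodes.OppDec Cfsg.Agent.Nodes.LeviDec Cfsg.Agent.Nodes.SubComb
  Cfsg.Agent.Nodes.Sub Cfsg.Agent.H622.Levi Cfsg.Agent.H880.Six
open Cfsg.Agent.LieRecognition.BNCox (cA)
open Matrix

variable {I W Y : Type*} [Fintype I] [DecidableEq I] [Group W] [Group Y] {M : CoxeterMatrix I}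
  {cs : CoxeterSystem M W} {A : I → I → ℤ} {h : IsCartan M A} {p : ℕ} {T : Subgroup Y} {n : I → Y}
  {X : (I → ℤ) → Subgroup Y}

/-! ## Coordinates over `ZMod 3` -/

section co

variable {m : ℕ} {F : Type} [Field F] {φ : SpecialLinearGroup (Fin (m + 1)) F →* Y}

theorem co_inj {k : Fin m → I} (C : Co X k F φ) {a b : Fin (m + 1)} (hab : a ≠ b) {t : F}
    (ht : φ (SpecialLinearGroup.transvection hab t) = 1) : t = 0 :=
  (SpecialLinearGroup.transvection_mem_center_iff hab t).1 (C.ker ht)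

theorem co_card {k : Fin m → I} (C : Co X k F φ) (i : Fin m) : Nat.card (X (sr (k i))) = Nat.card F := by
  have hne : i.castSucc ≠ i.succ := (Fin.castSucc_lt_succ (i := i)).ne
  have h1 := C.root _ _ hne
  rw [cr_succ] at h1
  have hinj : Function.Injective fun t : F => φ (SpecialLinearGroup.transvection hne t) := by
    intro s t hst
    have h2 : φ (SpecialLinearGroup.transvection hne (s + -t)) = 1 := by
      rw [SpecialLinearGroup.transvection_add, map_mul, ← SpecialLinearGroup.transvection_inv, map_inv]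
      exact mul_inv_eq_one.2 hst
    exact add_neg_eq_zero.1 (co_inj C hne h2)
  have h6 : Nat.card (X (sr (k i))) = Nat.card (Set.range fun t : F => φ (SpecialLinearGroup.transvection hne t)) := by
    rw [← h1]
    rfl
  rw [h6]
  exact Nat.card_range_of_injective hinj

/-- **Coordinates over `ZMod 3`.** -/
theorem exists_co_three [Finite W] [Finite Y] (R : RGD cs h p T n X) {m : ℕ} (hm : 2 ≤ m) (k : Fin m ↪ I)
    (hk : ∀ i j, M (k i) (k j) = cA m i j) (i₀ : Fin m) (hc : Nat.card (X (sr (k i₀))) = 3) :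
    ∃ φ : SpecialLinearGroup (Fin (m + 1)) (ZMod 3) →* Y, Co X k (ZMod 3) φ := by
  obtain ⟨F, _, _, φ, C⟩ := exists_co R hm k hk
  have hF : Fintype.card F = 3 := by
    rw [← Nat.card_eq_fintype_card, ← co_card C i₀, hc]
  let e : ZMod 3 ≃+* F := ZMod.ringEquivOfPrime F Nat.prime_three hF
  let E : SpecialLinearGroup (Fin (m + 1)) (ZMod 3) →* SpecialLinearGroup (Fin (m + 1)) F :=
    SpecialLinearGroup.map e.toRingHom
  have hE : Function.Injective E := by
    intro g g' hgg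
    apply Subtype.ext
    ext r s
    have h1 := congrFun (congrFun (congrArg Subtype.val hgg) r) s
    exact e.injective h1
  have hE' : Function.Surjective E := by
    intro g
    refine ⟨SpecialLinearGroup.map e.symm.toRingHom g, ?_⟩
    apply Subtype.ext
    ext r s
    exact e.apply_symm_apply (g.1 r s)
  have hEt : ∀ a b (hab : a ≠ b) (t : ZMod 3), E (SpecialLinearGroup.transvection hab t) =
      SpecialLinearGroup.transvection hab (e t) := by
    intro a b hab t
    apply Subtype.ext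
    ext r s
    show e ((1 + Matrix.single a b t : Matrix _ _ (ZMod 3)) r s) = (1 + Matrix.single a b (e t) : Matrix _ _ F) r s
    rw [Matrix.add_apply, Matrix.add_apply, map_add, Matrix.single_apply, Matrix.single_apply, Matrix.one_apply,
      Matrix.one_apply]
    congr 1
    · split_ifs <;> simp
    · split_ifs <;> simp
  refine ⟨φ.comp E, ?_, ?_⟩
  · intro a b hab
    rw [C.root a b hab]
    ext y
    constructor
    · rintro ⟨t, rfl⟩
      refine ⟨e.symm t, ?_⟩
      show φ (E _) = _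
      rw [hEt, e.apply_symm_apply]
    · rintro ⟨t, rfl⟩
      refine ⟨e t, ?_⟩
      show _ = φ (E _)
      rw [hEt]
  · intro g hg
    have h1 : E g ∈ Subgroup.center _ := C.ker hg
    rw [Subgroup.mem_center_iff] at h1 ⊢
    intro g'
    apply hE
    rw [map_mul, map_mul]
    exact h1 _

end co

/-! ## Unitriangular matrices -/

section uni

variable {m : ℕ} {k : Fin m ↪ I} {F : Type} [Field F] {φ : SpecialLinearGroup (Fin (m + 1)) F →* Y}

theorem cs_ne (i : Fin m) : i.castSucc ≠ i.succ := (Fin.castSucc_lt_succ (i := i)).ne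

/-- unitriangular matrices and their simple coordinates -/
structure Uni (cs : CoxeterSystem M W) (h : IsCartan M A) (X : (I → ℤ) → Subgroup Y) (k : Fin m ↪ I)
    (φ : SpecialLinearGroup (Fin (m + 1)) F →* Y) (g : SpecialLinearGroup (Fin (m + 1)) F) : Prop where
  diag : ∀ r, g.1 r r = 1
  low : ∀ r s, s < r → g.1 r s = 0
  coord : ∀ i : Fin m, ∃ v ∈ VJ cs h X {k i},
    φ g = φ (SpecialLinearGroup.transvection (cs_ne i) (g.1 i.castSucc i.succ)) * v

theorem cr_apply (a b : Fin (m + 1)) (j : Fin m) :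
    cr k a b (k j) = (if a.val ≤ j.val then 1 else 0) - (if b.val ≤ j.val then 1 else 0) := by
  unfold cr
  rw [iota_levi_apply, rtA_apply]

theorem VJ_anti {J J' : Set I} (hJ : J ⊆ J') : VJ cs h X J' ≤ VJ cs h X J :=
  RGD.Sup_mono fun _ hx => ⟨hx.1, hx.2.1, by
    obtain ⟨k, hk, hk0⟩ := hx.2.2
    exact ⟨k, fun h1 => hk (hJ h1), hk0⟩⟩

theorem VJ_range_le (i : Fin m) : VJ cs h X (Set.range k) ≤ VJ cs h X {k i} :=
  VJ_anti (by rintro _ rfl; exact ⟨i, rfl⟩)

section

variable [Finite W] (hk : ∀ i j, M (k i) (k j) = cA m i j)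
include hk

theorem cr_mem_pos {a b : Fin (m + 1)} (hab : a < b) : cr k a b ∈ PosJ cs h (Set.range k) := by
  have h1 := (mem_rootsJ (cs := cs) (h := h) hk).2 ⟨a, b, hab.ne, rfl⟩
  refine ⟨h1.1, ?_, h1.2⟩
  intro j
  rw [Pi.zero_apply]
  by_cases hj : ∃ j', k j' = j
  · obtain ⟨j', rfl⟩ := hj
    rw [cr_apply]
    have h3 : a.val < b.val := hab
    have h4 : (0 : ℤ) ≤ (if a.val ≤ j'.val then 1 else 0) - (if b.val ≤ j'.val then 1 else 0) := by
      split_ifs <;> omega
    exact h4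
  · rw [h1.2 j fun ⟨j', e⟩ => hj ⟨j', e⟩]

theorem mem_pos_iff {x : I → ℤ} : x ∈ PosJ cs h (Set.range k) ↔ ∃ a b : Fin (m + 1), a < b ∧ x = cr k a b := by
  constructor
  · intro hx
    obtain ⟨a, b, hab, rfl⟩ := (mem_rootsJ (cs := cs) (h := h) hk).1 (PosJ_subset _ hx)
    rcases lt_or_gt_of_ne hab with h1 | h1
    · exact ⟨a, b, h1, rfl⟩
    · exfalso
      have h2 := hx.2.1 (k ⟨b.val, by have := a.2; have h3 : b.val < a.val := h1; omega⟩)
      rw [cr_apply] at h2
      have h3 : b.val < a.val := h1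
      simp only [Pi.zero_apply] at h2
      rw [if_neg (by omega), if_pos le_rfl] at h2
      omega
  · rintro ⟨a, b, hab, rfl⟩
    exact cr_mem_pos hk hab

theorem cr_mem_NotJ {a b : Fin (m + 1)} (hab : a < b) {i : Fin m} (hi : ¬ (a = i.castSucc ∧ b = i.succ)) :
    cr k a b ∈ NotJ cs h {k i} := by
  have h1 := cr_mem_pos (cs := cs) (h := h) hk hab
  refine ⟨h1.1, h1.2.1, ?_⟩
  have h3 : a.val < b.val := hab
  have hb := b.2
  by_cases ha : a.val = i.val
  · -- then `b ≠ i + 1`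
    have h4 : b.val ≠ i.val + 1 := by
      intro h5
      exact hi ⟨Fin.ext (by rw [Fin.val_castSucc]; exact ha), Fin.ext (by rw [Fin.val_succ]; exact h5)⟩
    refine ⟨k ⟨i.val + 1, by omega⟩, ?_, ?_⟩
    · intro h5
      have := k.injective (Set.mem_singleton_iff.1 h5)
      have := congrArg Fin.val this
      simp at this
    · rw [cr_apply]
      simp only
      rw [if_pos (by omega), if_neg (by omega)]
      norm_num
  · refine ⟨k ⟨a.val, by omega⟩, ?_, ?_⟩
    · intro h5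
      have := k.injective (Set.mem_singleton_iff.1 h5)
      have := congrArg Fin.val this
      exact ha this
    · rw [cr_apply]
      simp only
      rw [if_pos (by omega), if_neg (by omega)]
      norm_num

theorem uni_transvection (C : Co X k F φ) {a b : Fin (m + 1)} (hab : a < b) (t : F) :
    Uni cs h X k φ (SpecialLinearGroup.transvection hab.ne t) where
  diag r := by
    show (1 + Matrix.single a b t : Matrix _ _ F) r r = 1
    rw [Matrix.add_apply, Matrix.one_apply_eq, Matrix.single_apply, if_neg, add_zero]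
    rintro ⟨rfl, rfl⟩
    exact lt_irrefl _ hab
  low r s hsr := by
    show (1 + Matrix.single a b t : Matrix _ _ F) r s = 0
    rw [Matrix.add_apply, Matrix.one_apply_ne hsr.ne', Matrix.single_apply, if_neg, add_zero]
    rintro ⟨rfl, rfl⟩
    exact lt_asymm hab hsr
  coord i := by
    by_cases hi : a = i.castSucc ∧ b = i.succ
    · obtain ⟨rfl, rfl⟩ := hi
      refine ⟨1, one_mem _, ?_⟩
      have h1 : (SpecialLinearGroup.transvection hab.ne t).1 i.castSucc i.succ = t := by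
        show (1 + Matrix.single i.castSucc i.succ t : Matrix _ _ F) i.castSucc i.succ = t
        rw [Matrix.add_apply, Matrix.one_apply_ne hab.ne, Matrix.single_apply_same, zero_add]
      rw [h1, mul_one]
    · have h1 : (SpecialLinearGroup.transvection hab.ne t).1 i.castSucc i.succ = 0 := by
        show (1 + Matrix.single a b t : Matrix _ _ F) i.castSucc i.succ = 0
        rw [Matrix.add_apply, Matrix.one_apply_ne (cs_ne i), Matrix.single_apply, if_neg hi, add_zero]
      refine ⟨φ (SpecialLinearGroup.transvection hab.ne t), ?_, ?_⟩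
      · exact RGD.le_Sup (cr_mem_NotJ hk hab hi) (C.transvection_mem hab.ne t)
      · rw [h1, SpecialLinearGroup.transvection_coeff_zero, map_one, one_mul]

omit hk in
theorem uni_one : Uni cs h X k φ 1 where
  diag r := by
    show (1 : Matrix _ _ F) r r = 1
    exact Matrix.one_apply_eq r
  low r s hsr := by
    show (1 : Matrix _ _ F) r s = 0
    exact Matrix.one_apply_ne hsr.ne'
  coord i := by
    refine ⟨1, one_mem _, ?_⟩
    have h1 : (1 : SpecialLinearGroup (Fin (m + 1)) F).1 i.castSucc i.succ = 0 := by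
      show (1 : Matrix _ _ F) i.castSucc i.succ = 0
      exact Matrix.one_apply_ne (cs_ne i)
    rw [h1, SpecialLinearGroup.transvection_coeff_zero, mul_one]

omit hk in
theorem Uni.mul (R : RGD cs h p T n X) (C : Co X k F φ) {g g' : SpecialLinearGroup (Fin (m + 1)) F}
    (hg : Uni cs h X k φ g) (hg' : Uni cs h X k φ g') : Uni cs h X k φ (g * g') := by
  have hentry : ∀ i : Fin m, (g * g').1 i.castSucc i.succ = g.1 i.castSucc i.succ + g'.1 i.castSucc i.succ := by
    intro i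
    show (g.1 * g'.1) i.castSucc i.succ = _
    rw [Matrix.mul_apply, Fintype.sum_eq_add i.castSucc i.succ (cs_ne i)]
    · rw [hg.diag, hg'.diag, one_mul, mul_one, add_comm]
    · rintro t ⟨h1, h2⟩
      have h1' : t.val ≠ i.val := fun e => h1 (Fin.ext (by rw [Fin.val_castSucc]; exact e))
      have h2' : t.val ≠ i.val + 1 := fun e => h2 (Fin.ext (by rw [Fin.val_succ]; exact e))
      rcases lt_or_gt_of_ne h1' with h3 | h3
      · rw [hg.low _ _ (show t < i.castSucc by rw [Fin.lt_def, Fin.val_castSucc]; exact h3), zero_mul]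
      · rw [hg'.low _ _ (show i.succ < t by rw [Fin.lt_def, Fin.val_succ]; omega), mul_zero]
  refine ⟨fun r => ?_, fun r s hsr => ?_, fun i => ?_⟩
  · show (g.1 * g'.1) r r = 1
    rw [Matrix.mul_apply, Finset.sum_eq_single r]
    · rw [hg.diag, hg'.diag, one_mul]
    · intro t _ htr
      rcases lt_or_gt_of_ne htr with h1 | h1
      · rw [hg.low _ _ h1, zero_mul]
      · rw [hg'.low _ _ h1, mul_zero]
    · intro h1
      exact absurd (Finset.mem_univ _) h1
  · show (g.1 * g'.1) r s = 0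
    rw [Matrix.mul_apply]
    refine Finset.sum_eq_zero fun t _ => ?_
    by_cases h1 : t < r
    · rw [hg.low _ _ h1, zero_mul]
    · rw [hg'.low _ _ (lt_of_lt_of_le hsr (not_lt.1 h1)), mul_zero]
  · obtain ⟨v, hv, e⟩ := hg.coord i
    obtain ⟨v', hv', e'⟩ := hg'.coord i
    set x := φ (SpecialLinearGroup.transvection (cs_ne i) (g.1 i.castSucc i.succ)) with hx
    set x' := φ (SpecialLinearGroup.transvection (cs_ne i) (g'.1 i.castSucc i.succ)) with hx'
    have h1 : x' ∈ LJ cs h T X {k i} := by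
      refine X_le_LJ (J := {k i}) (x := sr (k i)) ?_ ?_
      · exact PosJ_subset _ (sr_mem_PosJ (Set.mem_singleton _))
      · rw [← cr_succ k i]
        exact C.transvection_mem (cs_ne i) _
    have h2 : x'⁻¹ * v * x' ∈ VJ cs h X {k i} := by
      have h3 := (Subgroup.mem_normalizer_iff.1 (inv_mem (LJ_le_normalizer_VJ R {k i} h1)) v).1 hv
      rwa [inv_inv] at h3
    refine ⟨(x'⁻¹ * v * x') * v', mul_mem h2 hv', ?_⟩
    rw [hentry, SpecialLinearGroup.transvection_add, map_mul, map_mul, e, e', ← hx, ← hx']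
    group

/-- the elements of `U_J` are images of unitriangular matrices -/
theorem exists_uni (R : RGD cs h p T n X) (C : Co X k F φ) {u : Y} (hu : u ∈ UJ cs h X (Set.range k)) :
    ∃ g, Uni cs h X k φ g ∧ φ g = u := by
  unfold UJ RGD.Sup at hu
  refine Subgroup.iSup_induction (fun z : ↥(PosJ cs h (Set.range k)) => X z.1)
    (C := fun u => ∃ g, Uni cs h X k φ g ∧ φ g = u) hu ?_ ?_ ?_
  · rintro ⟨z, hz⟩ x hx
    obtain ⟨a, b, hab, rfl⟩ := (mem_pos_iff hk).1 hz
    have h1 : x ∈ (X (cr k a b) : Set Y) := hx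
    rw [C.root a b hab.ne] at h1
    obtain ⟨t, rfl⟩ := h1
    exact ⟨_, uni_transvection hk C hab t, rfl⟩
  · exact ⟨1, uni_one, map_one φ⟩
  · rintro x y ⟨g, hg, rfl⟩ ⟨g', hg', rfl⟩
    exact ⟨g * g', hg.mul R C hg', map_mul φ g g'⟩

omit hk in
theorem Uni.mem_VJ {g : SpecialLinearGroup (Fin (m + 1)) F} (hg : Uni cs h X k φ g) {i : Fin m}
    (h0 : g.1 i.castSucc i.succ = 0) : φ g ∈ VJ cs h X {k i} := by
  obtain ⟨v, hv, e⟩ := hg.coord i
  rw [e, h0, SpecialLinearGroup.transvection_coeff_zero, map_one, one_mul]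
  exact hv

omit hk in
theorem transvection_VJ (R : RGD cs h p T n X) (C : Co X k F φ) {i : Fin m} {t : F}
    (ht : φ (SpecialLinearGroup.transvection (cs_ne i) t) ∈ VJ cs h X {k i}) : t = 0 := by
  refine co_inj C (cs_ne i) (eq_one_of_mem_LJ_of_mem_VJ R (J := {k i}) ?_ ht)
  refine X_le_LJ (J := {k i}) (x := sr (k i)) ?_ ?_
  · exact PosJ_subset _ (sr_mem_PosJ (Set.mem_singleton _))
  · rw [← cr_succ k i]
    exact C.transvection_mem (cs_ne i) _

omit hk in
theorem Uni.eq_zero (R : RGD cs h p T n X) (C : Co X k F φ) {g : SpecialLinearGroup (Fin (m + 1)) F}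
    (hg : Uni cs h X k φ g) {i : Fin m} (hv : φ g ∈ VJ cs h X {k i}) : g.1 i.castSucc i.succ = 0 := by
  obtain ⟨v, hv', e⟩ := hg.coord i
  refine transvection_VJ R C (i := i) ?_
  have h1 : φ (SpecialLinearGroup.transvection (cs_ne i) (g.1 i.castSucc i.succ)) = φ g * v⁻¹ := by
    rw [e, mul_inv_cancel_right]
  rw [h1]
  exact mul_mem hv (inv_mem hv')

/-- **coordinates of the elements of `U`** -/
theorem exists_decomp (R : RGD cs h p T n X) (C : Co X k F φ) {v : Y} (hv : v ∈ RGD.Sup X (RGD.Pos cs h)) :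
    ∃ g, Uni cs h X k φ g ∧ ∃ v' ∈ VJ cs h X (Set.range k), v = φ g * v' ∧
      ∀ i, v ∈ VJ cs h X {k i} ↔ g.1 i.castSucc i.succ = 0 := by
  obtain ⟨u, hu, v', hv', rfl⟩ := (mem_U_iff R (J := Set.range k)).1 hv
  obtain ⟨g, hg, rfl⟩ := exists_uni hk R C hu
  refine ⟨g, hg, v', hv', rfl, fun i => ⟨fun h1 => ?_, fun h1 => ?_⟩⟩
  · refine hg.eq_zero R C (i := i) ?_
    have h2 : φ g = φ g * v' * v'⁻¹ := by group
    rw [h2]
    exact mul_mem h1 (inv_mem (VJ_range_le i hv'))
  · exact mul_mem (hg.mem_VJ h1) (VJ_range_le i hv')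

end

end uni

/-! ## `PS2` -/

/-- `PS2` passes to the Levi factors -/
theorem PS2.of_PJ [Finite W] (R : RGD cs h p T n X) {J : Set I} {u v' : Y} (hu : u ∈ LJ cs h T X J)
    (hv' : v' ∈ VJ cs h X J) (hP : PS2 (u * v')) {g : Y} (hg : g ∈ LJ cs h T X J) :
    Group.IsSolvable ↥(Subgroup.closure ({u, g * u * g⁻¹} : Set Y)) := by
  obtain ⟨π, hπl, hπv⟩ := H53.HC.exists_projL R J
  set v := u * v' with hv
  set K := Subgroup.closure ({v, g * v * g⁻¹} : Set Y) with hK
  have hs : Group.IsSolvable K := hP g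
  have hvP : v ∈ PJ cs h T X J := mul_mem (LJ_le_PJ hu) (VJ_le_PJ hv')
  have hgP : g ∈ PJ cs h T X J := LJ_le_PJ hg
  have hwP : g * v * g⁻¹ ∈ PJ cs h T X J := mul_mem (mul_mem hgP hvP) (inv_mem hgP)
  have hKP : K ≤ PJ cs h T X J := by
    rw [hK, Subgroup.closure_le]
    rintro x (rfl | rfl)
    · exact hvP
    · exact hwP
  have e1 : π ⟨v, hvP⟩ = ⟨u, hu⟩ := by
    have h1 : (⟨v, hvP⟩ : ↥(PJ cs h T X J)) = ⟨u, LJ_le_PJ hu⟩ * ⟨v', VJ_le_PJ hv'⟩ := Subtype.ext hv
    rw [h1, map_mul, hπl u hu, hπv v' hv', mul_one]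
  have e2 : π ⟨g * v * g⁻¹, hwP⟩ = ⟨g, hg⟩ * ⟨u, hu⟩ * ⟨g, hg⟩⁻¹ := by
    have h1 : (⟨g * v * g⁻¹, hwP⟩ : ↥(PJ cs h T X J)) = ⟨g, hgP⟩ * ⟨v, hvP⟩ * ⟨g, hgP⟩⁻¹ := rfl
    rw [h1, map_mul, map_mul, map_inv, e1, hπl g hg]
  let f : K →* Y := (LJ cs h T X J).subtype.comp (π.comp (Subgroup.inclusion hKP))
  have hf : Subgroup.closure ({u, g * u * g⁻¹} : Set Y) ≤ f.range := by
    rw [Subgroup.closure_le]
    rintro x (rfl | rfl)
    · refine ⟨⟨v, Subgroup.subset_closure (by simp)⟩, ?_⟩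
      show ((π ⟨v, hvP⟩ : ↥(LJ cs h T X J)) : Y) = x
      rw [e1]
    · refine ⟨⟨g * v * g⁻¹, Subgroup.subset_closure (by simp)⟩, ?_⟩
      show ((π ⟨g * v * g⁻¹, hwP⟩ : ↥(LJ cs h T X J)) : Y) = _
      rw [e2]
      rfl
  have hr : Group.IsSolvable f.range := Group.isSolvable_of_surjective f.rangeRestrict_surjective
  exact Group.isSolvable_of_isSolvable_injective (f := Subgroup.inclusion hf) (Subgroup.inclusion_injective hf)

/-- solvability of the preimage under a homomorphism with central kernel -/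
theorem solvable_of_map {G H : Type*} [Group G] [Group H] (φ : G →* H) (hφ : φ.ker ≤ Subgroup.center G)
    (K : Subgroup G) (hK : Group.IsSolvable ↥(K.map φ)) : Group.IsSolvable K := by
  let f : K →* ↥(K.map φ) := φ.subgroupMap K
  have h1 : Group.IsSolvable f.ker := by
    refine Group.isSolvable_of_comm fun a b => ?_
    apply Subtype.ext
    apply Subtype.ext
    have h2 : ((b : K) : G) ∈ φ.ker := congrArg Subtype.val b.2
    exact Subgroup.mem_center_iff.1 (hφ h2) _
  exact Group.isSolvable_of_ker_le_range f.ker.subtype f (by rw [Subgroup.range_subtype])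

theorem PS2.of_co {m : ℕ} {k : Fin m ↪ I} {F : Type} [Field F] {φ : SpecialLinearGroup (Fin (m + 1)) F →* Y}
    [Finite W] (R : RGD cs h p T n X) (hm : 0 < m) (hk : ∀ i j, M (k i) (k j) = cA m i j) (C : Co X k F φ)
    {g : SpecialLinearGroup (Fin (m + 1)) F} {v' : Y} (hv' : v' ∈ VJ cs h X (Set.range k)) (hP : PS2 (φ g * v')) :
    PS2 g := by
  intro g'
  have hr : ∀ x, φ x ∈ LJ cs h T X (Set.range k) := by
    intro x
    have h1 : φ x ∈ φ.range := ⟨x, rfl⟩
    rw [C.range (cs := cs) (h := h) hk hm] at h1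
    exact H53.HC.MJ_le_LJ (T := T) _ h1
  have h1 := PS2.of_PJ R (hr g) hv' hP (hr g')
  refine solvable_of_map φ C.ker _ ?_
  rw [MonoidHom.map_closure, Set.image_pair, map_mul, map_mul, map_inv]
  exact h1

/-! ## The tests -/

/-- the chain of two nodes -/
def k2 {i j : I} (hne : i ≠ j) : Fin 2 ↪ I := ⟨![i, j], by
  intro a b hab
  fin_cases a <;> fin_cases b
  · rfl
  · exact absurd hab hne
  · exact absurd hab hne.symm
  · rfl⟩

theorem k2_range {i j : I} (hne : i ≠ j) : Set.range (k2 hne) = {i, j} := by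
  ext x
  constructor
  · rintro ⟨a, rfl⟩
    fin_cases a
    · exact Or.inl rfl
    · exact Or.inr rfl
  · rintro (rfl | rfl)
    · exact ⟨0, rfl⟩
    · exact ⟨1, rfl⟩

theorem k2_cA {i j : I} (hne : i ≠ j) (hij : M i j = 3) : ∀ a b, M (k2 hne a) (k2 hne b) = cA 2 a b := by
  intro a b
  fin_cases a <;> fin_cases b
  · change M i i = _
    rw [M.diagonal]; rfl
  · change M i j = _
    rw [hij]; rfl
  · change M j i = _
    rw [M.symmetric, hij]; rfl
  · change M j j = _
    rw [M.diagonal]; rfl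

theorem ne_of_M {i j : I} (hij : M i j = 3) : i ≠ j := by
  rintro rfl
  rw [M.diagonal] at hij
  omega

theorem uni_three {k : Fin 2 ↪ I} {F : Type} [Field F] {φ : SpecialLinearGroup (Fin 3) F →* Y}
    {g : SpecialLinearGroup (Fin 3) F} (hg : Uni cs h X k φ g) :
    g.1 = !![1, g.1 0 1, g.1 0 2; 0, 1, g.1 1 2; 0, 0, 1] := by
  ext r s
  fin_cases r <;> fin_cases s
  · exact hg.diag 0
  · rfl
  · rfl
  · exact hg.low 1 0 (by decide)
  · exact hg.diag 1
  · rfl
  · exact hg.low 2 0 (by decide)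
  · exact hg.low 2 1 (by decide)
  · exact hg.diag 2

/-- **the test `A₂`** -/
theorem tA2 [Finite W] [Finite Y] (R : RGD cs h 3 T n X) {i j : I} (hij : M i j = 3)
    (hc : Nat.card (X (sr i)) = 3) {v : Y} (hv : v ∈ RGD.Sup X (RGD.Pos cs h)) (hP : PS2 v) :
    v ∈ VJ cs h X {i} ∨ v ∈ VJ cs h X {j} := by
  have hne := ne_of_M hij
  obtain ⟨φ, C⟩ := exists_co_three R le_rfl (k2 hne) (k2_cA hne hij) 0 hc
  obtain ⟨g, hg, v', hv', rfl, hcoord⟩ := exists_decomp (k2_cA hne hij) R C hv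
  by_contra hcon
  push Not at hcon
  have h0 : g.1 0 1 ≠ 0 := fun e => hcon.1 ((hcoord 0).2 e)
  have h1 : g.1 1 2 ≠ 0 := fun e => hcon.2 ((hcoord 1).2 e)
  exact not_ps2_three g (uni_three hg) h0 h1 (PS2.of_co R (by norm_num) (k2_cA hne hij) C hv' hP)

/-- **moving a coordinate along a simple bond** -/
theorem mvA2 [Finite W] [Finite Y] (R : RGD cs h 3 T n X) {i j : I} (hij : M i j = 3)
    (hc : Nat.card (X (sr i)) = 3) {v : Y} (hv : v ∈ VJ cs h X {j}) (hvi : v ∉ VJ cs h X {i}) :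
    ∃ g ∈ H53.HC.MJ cs h X {i, j}, g * v * g⁻¹ ∈ VJ cs h X {i} ∧ g * v * g⁻¹ ∉ VJ cs h X {j} := by
  have hne := ne_of_M hij
  obtain ⟨φ, C⟩ := exists_co_three R le_rfl (k2 hne) (k2_cA hne hij) 0 hc
  obtain ⟨g, hg, v', hv', rfl, hcoord⟩ := exists_decomp (k2_cA hne hij) R C (VJ_le_U _ hv)
  have h0 : g.1 0 1 ≠ 0 := fun e => hvi ((hcoord 0).2 e)
  have h1 : g.1 1 2 = 0 := (hcoord 1).1 hv
  have h2 := uni_three hg
  rw [h1] at h2
  obtain ⟨P, hPg⟩ := move_three g h2 h0
  have hPr : φ P ∈ H53.HC.MJ cs h X (Set.range (k2 hne)) := by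
    have h3 : φ P ∈ φ.range := ⟨P, rfl⟩
    rw [C.range (cs := cs) (h := h) (k2_cA hne hij) (by norm_num)] at h3
    exact h3
  have hPV : φ P * v' * (φ P)⁻¹ ∈ VJ cs h X (Set.range (k2 hne)) :=
    (Subgroup.mem_normalizer_iff.1 (LJ_le_normalizer_VJ R _ (H53.HC.MJ_le_LJ (T := T) _ hPr)) v').1 hv'
  have e : φ P * (φ g * v') * (φ P)⁻¹ =
      φ (SpecialLinearGroup.transvection (show (1 : Fin 3) ≠ 2 by decide) 1) * (φ P * v' * (φ P)⁻¹) := by
    rw [← hPg, map_mul, map_mul, map_inv]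
    group
  have hmem : φ (SpecialLinearGroup.transvection (show (1 : Fin 3) ≠ 2 by decide) 1) ∈ VJ cs h X {k2 hne 0} :=
    RGD.le_Sup (cr_mem_NotJ (a := (1 : Fin 3)) (b := 2) (i := (0 : Fin 2)) (k2_cA hne hij) (by decide) (by decide))
      (C.transvection_mem _ _)
  refine ⟨φ P, by rw [← k2_range hne]; exact hPr, ?_, ?_⟩
  · rw [e]
    exact mul_mem hmem (VJ_range_le (k := k2 hne) 0 hPV)
  · intro h3
    rw [e] at h3
    have h4 : φ (SpecialLinearGroup.transvection (show (1 : Fin 3) ≠ 2 by decide) 1) ∈ VJ cs h X {k2 hne 1} := by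
      have h5 := mul_mem h3 (inv_mem (VJ_range_le (k := k2 hne) 1 hPV))
      rwa [mul_inv_cancel_right] at h5
    exact one_ne_zero (transvection_VJ R C (i := (1 : Fin 2)) h4)

/-- the chain of three nodes -/
def k3 {i j k : I} (h1 : i ≠ j) (h2 : j ≠ k) (h3 : i ≠ k) : Fin 3 ↪ I := ⟨![i, j, k], by
  intro a b hab
  fin_cases a <;> fin_cases b
  · rfl
  · exact absurd hab h1
  · exact absurd hab h3
  · exact absurd hab h1.symm
  · rfl
  · exact absurd hab h2
  · exact absurd hab h3.symm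
  · exact absurd hab h2.symm
  · rfl⟩

theorem k3_cA {i j k : I} (h1 : i ≠ j) (h2 : j ≠ k) (h3 : i ≠ k) (hij : M i j = 3) (hjk : M j k = 3)
    (hik : M i k = 2) : ∀ a b, M (k3 h1 h2 h3 a) (k3 h1 h2 h3 b) = cA 3 a b := by
  intro a b
  fin_cases a <;> fin_cases b
  · change M i i = _
    rw [M.diagonal]; rfl
  · change M i j = _
    rw [hij]; rfl
  · change M i k = _
    rw [hik]; rfl
  · change M j i = _
    rw [M.symmetric, hij]; rfl
  · change M j j = _
    rw [M.diagonal]; rfl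
  · change M j k = _
    rw [hjk]; rfl
  · change M k i = _
    rw [M.symmetric, hik]; rfl
  · change M k j = _
    rw [M.symmetric, hjk]; rfl
  · change M k k = _
    rw [M.diagonal]; rfl

theorem uni_four {k : Fin 3 ↪ I} {F : Type} [Field F] {φ : SpecialLinearGroup (Fin 4) F →* Y}
    {g : SpecialLinearGroup (Fin 4) F} (hg : Uni cs h X k φ g) :
    g.1 = !![1, g.1 0 1, g.1 0 2, g.1 0 3; 0, 1, g.1 1 2, g.1 1 3; 0, 0, 1, g.1 2 3; 0, 0, 0, 1] := by
  ext r s
  fin_cases r <;> fin_cases s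
  · exact hg.diag 0
  · rfl
  · rfl
  · rfl
  · exact hg.low 1 0 (by decide)
  · exact hg.diag 1
  · rfl
  · rfl
  · exact hg.low 2 0 (by decide)
  · exact hg.low 2 1 (by decide)
  · exact hg.diag 2
  · rfl
  · exact hg.low 3 0 (by decide)
  · exact hg.low 3 1 (by decide)
  · exact hg.low 3 2 (by decide)
  · exact hg.diag 3

/-- **the test `A₃`** -/
theorem tA3 [Finite W] [Finite Y] (R : RGD cs h 3 T n X) {i j k : I} (hij : M i j = 3) (hjk : M j k = 3)
    (hik : M i k = 2) (hc : Nat.card (X (sr i)) = 3) {v : Y} (hv : v ∈ VJ cs h X {j}) (hP : PS2 v) :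
    v ∈ VJ cs h X {i} ∨ v ∈ VJ cs h X {k} := by
  have n1 := ne_of_M hij
  have n2 := ne_of_M hjk
  have n3 : i ≠ k := by
    rintro rfl
    rw [M.diagonal] at hik
    omega
  have hkA := k3_cA n1 n2 n3 hij hjk hik
  obtain ⟨φ, C⟩ := exists_co_three R (by norm_num) (k3 n1 n2 n3) hkA 0 hc
  obtain ⟨g, hg, v', hv', rfl, hcoord⟩ := exists_decomp hkA R C (VJ_le_U _ hv)
  by_contra hcon
  push Not at hcon
  have h0 : g.1 0 1 ≠ 0 := fun e => hcon.1 ((hcoord 0).2 e)
  have h1 : g.1 1 2 = 0 := (hcoord 1).1 hv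
  have h2 : g.1 2 3 ≠ 0 := fun e => hcon.2 ((hcoord 2).2 e)
  have h3 := uni_four hg
  rw [h1] at h3
  exact not_ps2_four g h3 h0 h2 (PS2.of_co R (by norm_num) hkA C hv' hP)

end Cfsg.Agent.H544.SNX
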